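import Groth.Agent.DRingKProj.PCIff
import Groth.Agent.FlatComplex.Elementwise
import Mathlib.Algebra.Homology.SingleHomology

/-!
# Direct summands of pseudo-coherent objects
-/

universe u

open CategoryTheory Limits Pretriangulated

namespace Groth.Agent.DRingRetract

attribute [local instance] HasDerivedCategory.standard

set_option linter.style.haveILetI false

variable {A : Type u} [CommRing A]

open Groth.Agent.DRingKProj

theorem epi_comp_split {X Y Z : ModuleCat.{u} A} (f : X ⟶ Y) (r : Y ⟶ Z) (s : Z ⟶ Y) (h : s ≫ r = 𝟙 Z) [Epi f] :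
    Epi (f ≫ r) :=
  haveI : IsSplitEpi r := IsSplitEpi.mk' ⟨s, h⟩
  inferInstance

theorem exists_cover {b : ℤ} (M : Dual.D A) (hb : VanishGE (b + 1) M)
    (hfin : Module.Finite A ((DerivedCategory.homologyFunctor (ModuleCat.{u} A) b).obj M)) :
    ∃ (F : DRing.Cx A) (f : DRing.toD F ⟶ M), DRing.VanishesOutside F b b ∧ DRing.TermwiseFiniteFree F ∧
      IsoAbove b f := by
  let M₀ := DerivedCategory.Q.objPreimage M
  let e : DRing.toD M₀ ≅ M := DerivedCategory.Q.objObjPreimageIso M
  obtain ⟨X, π, -, hπ, -, hX⟩ := exists_resolution_of_exactAt (K := M₀) (S := fun n => n ≤ b)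
    (fun n hn => (vanishGE_Q_iff (b + 1) M₀).1 (fun j hj => (hb j hj).of_iso
      ((DerivedCategory.homologyFunctor _ j).mapIso e)) n (by omega)) (fun n hn => by omega)
  haveI := hπ
  let eX : DRing.toD X ≅ M := asIso (DerivedCategory.Q.map π) ≪≫ e
  let S := X.sc' (b - 1) b (b + 1)
  have hz : ∀ x : S.X₂, S.g x = 0 := fun x =>
    (ModuleCat.subsingleton_of_isZero (hX (b + 1) (by omega))).elim _ _
  let p : S.X₂ →ₗ[A] S.homology :=
    S.homologyπ.hom ∘ₗ S.moduleCatCyclesIso.inv.hom ∘ₗ LinearMap.id.codRestrict (LinearMap.ker S.g.hom) hz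
  have hp : ∀ x, p x = FlatComplex.cls S x (hz x) := fun _ => rfl
  have hps : Function.Surjective p := fun h => by
    obtain ⟨x, hx, rfl⟩ := FlatComplex.cls_surjective h
    exact ⟨x, hp x⟩
  haveI : Module.Finite A S.homology :=
    haveI := hfin
    Module.Finite.equiv (((DerivedCategory.homologyFunctor (ModuleCat.{u} A) b).mapIso eX.symm ≪≫
      (DerivedCategory.homologyFunctorFactors (ModuleCat.{u} A) b).app X ≪≫
      X.homologyIsoSc' (b - 1) b (b + 1) (by simp) (by simp)).toLinearEquiv)
  obtain ⟨k, g, hg⟩ := Module.Finite.exists_fin' A S.homology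
  obtain ⟨t, ht⟩ := Module.projective_lifting_property p g hps
  let W := ModuleCat.of A (Fin k → A)
  let F := (HomologicalComplex.single (ModuleCat.{u} A) (ComplexShape.up ℤ) b).obj W
  let φ : F ⟶ X := HomologicalComplex.mkHomFromSingle (ModuleCat.ofHom t) fun j hj =>
    (hX j (by simp at hj; omega)).eq_of_tgt _ _
  have hFo : DRing.VanishesOutside F b b := fun i hi =>
    HomologicalComplex.isZero_single_obj_X (ComplexShape.up ℤ) b W i (by omega)
  have hFf : DRing.TermwiseFiniteFree F := fun i => by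
    by_cases hi : i = b
    · subst hi
      let ei := (HomologicalComplex.singleObjXSelf (ComplexShape.up ℤ) i W).toLinearEquiv
      exact ⟨Module.Finite.equiv ei.symm, Module.Free.of_equiv ei.symm⟩
    · haveI := ModuleCat.subsingleton_of_isZero (hFo i (by omega))
      exact ⟨inferInstance, inferInstance⟩
  refine ⟨F, DerivedCategory.Q.map φ ≫ eX.hom, hFo, hFf, IsoAbove.comp ⟨fun i hi => ?_, ?_⟩ (IsoAbove.of_isIso b _)⟩
  · refine (NatIso.isIso_map_iff (DerivedCategory.homologyFunctorFactors _ i) φ).2 ?_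
    show IsIso (HomologicalComplex.homologyMap φ i)
    rw [← quasiIsoAt_iff_isIso_homologyMap, quasiIsoAt_iff_exactAt]
    · rw [X.exactAt_iff' (i - 1) i (i + 1) (by simp) (by simp)]
      exact ShortComplex.exact_of_isZero_X₂ _ (hX i (by omega))
    · rw [F.exactAt_iff' (i - 1) i (i + 1) (by simp) (by simp)]
      exact ShortComplex.exact_of_isZero_X₂ _ (hFo i (by omega))
  · have h : Epi (ShortComplex.homologyMap
        ((HomologicalComplex.shortComplexFunctor' _ _ (b - 1) b (b + 1)).map φ)) := by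
      rw [ModuleCat.epi_iff_surjective, FlatComplex.homologyMap_surjective_iff]
      intro (z : X.X b) hz'
      obtain ⟨c, hc⟩ := hg (p z)
      have : p (t c) = p z := (LinearMap.congr_fun ht c).trans hc
      rw [hp, hp, FlatComplex.cls_eq_cls_iff] at this
      obtain ⟨w, hw⟩ := this
      refine ⟨(HomologicalComplex.singleObjXSelf (ComplexShape.up ℤ) b W).inv c,
        (ModuleCat.subsingleton_of_isZero (hFo (b + 1) (by omega))).elim _ _, w, ?_⟩
      have hc' : φ.f b ((HomologicalComplex.singleObjXSelf (ComplexShape.up ℤ) b W).inv c) = t c := by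
        rw [← ModuleCat.comp_apply]
        simp [φ]
        rfl
      show φ.f b ((HomologicalComplex.singleObjXSelf (ComplexShape.up ℤ) b W).inv c) - z = _
      rw [hc']
      exact hw
    let N := HomologicalComplex.natIsoSc' (ModuleCat.{u} A) (ComplexShape.up ℤ) (b - 1) b (b + 1) (by simp) (by simp)
    have h2 : Epi (HomologicalComplex.homologyMap φ b) :=
      ((MorphismProperty.epimorphisms _).arrow_mk_iso_iff (Arrow.isoMk
        (ShortComplex.homologyMapIso (N.app F)) (ShortComplex.homologyMapIso (N.app X))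
        ((ShortComplex.homologyMap_comp (N.hom.app F) _).symm.trans
          ((congrArg (fun t => ShortComplex.homologyMap t) (N.hom.naturality φ)).symm.trans
            (ShortComplex.homologyMap_comp ((HomologicalComplex.shortComplexFunctor _ _ b).map φ) (N.hom.app X)))))).2 h
    exact ((MorphismProperty.epimorphisms _).arrow_mk_iso_iff (Arrow.isoMk
      ((DerivedCategory.homologyFunctorFactors (ModuleCat.{u} A) b).app F)
      ((DerivedCategory.homologyFunctorFactors (ModuleCat.{u} A) b).app X)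
      ((DerivedCategory.homologyFunctorFactors (ModuleCat.{u} A) b).hom.naturality φ).symm)).2 h2

/-- A direct summand of an `m`-pseudo-coherent object is `m`-pseudo-coherent. -/
theorem isPseudoCoherent_retract_aux (m : ℤ) : ∀ (n : ℕ) {K M : Dual.D A} (i : K ⟶ M) (r : M ⟶ K), i ≫ r = 𝟙 K →
    VanishGE (m + n) K → VanishGE (m + n) M → DRing.IsPseudoCoherent A m M → DRing.IsPseudoCoherent A m K
  | 0, K, M, i, r, _, hK, _, _ => by
    have hz : ∀ j, IsZero (((HomologicalComplex.single (ModuleCat.{u} A) (ComplexShape.up ℤ) 0).obj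
        (ModuleCat.of A PUnit.{u+1})).X j) := fun j => by
      by_cases h : j = 0
      · subst h
        exact (ModuleCat.isZero_of_subsingleton _).of_iso (HomologicalComplex.singleObjXSelf (ComplexShape.up ℤ) 0 _)
      · exact HomologicalComplex.isZero_single_obj_X _ _ _ _ h
    refine ⟨(HomologicalComplex.single (ModuleCat.{u} A) (ComplexShape.up ℤ) 0).obj (ModuleCat.of A PUnit), m, m, 0,
      fun j _ => ?_, fun j => ?_, fun j hj => ?_, ?_⟩
    · exact hz j
    · haveI := ModuleCat.subsingleton_of_isZero (hz j)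
      exact ⟨inferInstance, inferInstance⟩
    · refine isIso_of_source_target_iso_zero _ (IsZero.isoZero ?_) (IsZero.isoZero (hK j (by omega)))
      refine (((HomologicalComplex.exactAt_iff_isZero_homology ((HomologicalComplex.single (ModuleCat.{u} A)
        (ComplexShape.up ℤ) 0).obj (ModuleCat.of A PUnit)) j).1 ?_)).of_iso
        ((DerivedCategory.homologyFunctorFactors _ j).app _)
      exact ShortComplex.exact_of_isZero_X₂ _ (hz j)
    · exact ⟨fun _ _ _ => (hK m (by omega)).eq_of_src _ _⟩
  | n + 1, K, M, i, r, hir, hK, hM, hpc => by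
    let b : ℤ := m + n
    have hK' : VanishGE (b + 1) K := fun j hj => hK j (by push_cast; omega)
    have hM' : VanishGE (b + 1) M := fun j hj => hM j (by push_cast; omega)
    have hfin := (finite_homology (isPseudoCoherent_mono (show m ≤ b by omega) hpc)).1 fun j hj => hM' j (by omega)
    obtain ⟨F, ψ₀, hFo, hFf, hψ₀⟩ := exists_cover M hM' hfin
    let φ : DRing.toD F ⟶ K := ψ₀ ≫ r
    let ψ : DRing.toD F ⊞ DRing.toD F ⟶ M := biprod.desc (φ ≫ i) (ψ₀ ≫ (𝟙 M - r ≫ i))
    have hFb : ∀ j, b < j → IsZero ((DerivedCategory.homologyFunctor (ModuleCat.{u} A) j).obj (DRing.toD F)) :=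
      fun j hj => ((HomologicalComplex.exactAt_iff_isZero_homology _ j).1
        (ShortComplex.exact_of_isZero_X₂ _ (hFo j (Or.inr hj)))).of_iso
        ((DerivedCategory.homologyFunctorFactors _ j).app F)
    have hφ : IsoAbove b φ := by
      refine ⟨fun j hj => isIso_of_source_target_iso_zero _ (IsZero.isoZero (hFb j hj))
        (IsZero.isoZero (hK' j (by omega))), ?_⟩
      haveI := hψ₀.2
      rw [Functor.map_comp]
      exact epi_comp_split _ _ ((DerivedCategory.homologyFunctor _ b).map i)
        (by rw [← Functor.map_comp, hir, CategoryTheory.Functor.map_id])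
    have hψ : IsoAbove b ψ := by
      refine ⟨fun j hj => isIso_of_source_target_iso_zero _ (IsZero.isoZero ?_)
        (IsZero.isoZero (hM' j (by omega))), ?_⟩
      · haveI : PreservesBinaryBiproducts (DerivedCategory.homologyFunctor (ModuleCat.{u} A) j) :=
          preservesBinaryBiproducts_of_preservesBiproducts _
        exact IsZero.of_iso ((biprod_isZero_iff _ _).2 ⟨hFb j hj, hFb j hj⟩)
          ((DerivedCategory.homologyFunctor (ModuleCat.{u} A) j).mapBiprod _ _)
      · haveI := hψ₀.2
        have e : (biprod.lift (𝟙 (DRing.toD F)) (𝟙 (DRing.toD F))) ≫ ψ = ψ₀ := by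
          simp [ψ, φ, Preadditive.comp_sub]
        haveI : Epi ((DerivedCategory.homologyFunctor (ModuleCat.{u} A) b).map
            (biprod.lift (𝟙 (DRing.toD F)) (𝟙 (DRing.toD F))) ≫
              (DerivedCategory.homologyFunctor (ModuleCat.{u} A) b).map ψ) := by
          rw [← Functor.map_comp, e]; infer_instance
        exact epi_of_epi ((DerivedCategory.homologyFunctor (ModuleCat.{u} A) b).map
          (biprod.lift (𝟙 (DRing.toD F)) (𝟙 (DRing.toD F)))) _
    obtain ⟨C, c₁, c₂, hC⟩ := distinguished_cocone_triangle φ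
    obtain ⟨C', d₁, d₂, hC'⟩ := distinguished_cocone_triangle ψ
    obtain ⟨u, hu₂, hu₃⟩ := complete_distinguished_triangle_morphism _ _ hC hC' (biprod.inl) i (by
      show φ ≫ i = biprod.inl ≫ ψ
      simp [ψ])
    obtain ⟨v, hv₂, hv₃⟩ := complete_distinguished_triangle_morphism _ _ hC' hC (biprod.fst) r (by
      show ψ ≫ r = biprod.fst ≫ φ
      refine biprod.hom_ext' _ _ ?_ ?_
      · simp [ψ, hir]
      · simp [ψ, hir, Preadditive.comp_sub, Preadditive.sub_comp])
    change C ⟶ C' at u
    change C' ⟶ C at v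
    change c₁ ≫ u = i ≫ d₁ at hu₂
    change d₁ ≫ v = r ≫ c₁ at hv₂
    let U : Triangle.mk φ c₁ c₂ ⟶ Triangle.mk φ c₁ c₂ :=
      { hom₁ := 𝟙 _
        hom₂ := 𝟙 _
        hom₃ := u ≫ v
        comm₁ := by simp
        comm₂ := by
          have h1 : c₁ ≫ u = i ≫ d₁ := hu₂
          have h2 : d₁ ≫ v = r ≫ c₁ := hv₂
          show c₁ ≫ u ≫ v = 𝟙 _ ≫ c₁
          rw [reassoc_of% h1, h2, reassoc_of% hir, Category.id_comp]
        comm₃ := by
          have h1 : c₂ ≫ (biprod.inl : DRing.toD F ⟶ _)⟦(1 : ℤ)⟧' = u ≫ d₂ := hu₃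
          have h2 : d₂ ≫ (biprod.fst : DRing.toD F ⊞ DRing.toD F ⟶ _)⟦(1 : ℤ)⟧' = v ≫ c₂ := hv₃
          show c₂ ≫ (𝟙 (DRing.toD F))⟦(1 : ℤ)⟧' = (u ≫ v) ≫ c₂
          rw [Category.assoc, ← h2, ← reassoc_of% h1, ← Functor.map_comp, biprod.inl_fst] }
    haveI : IsIso (u ≫ v) := isIso₃_of_isIso₁₂ U hC hC (inferInstanceAs (IsIso (𝟙 _))) (inferInstanceAs (IsIso (𝟙 _)))
    have hFpc : ∀ k : ℤ, DRing.IsPseudoCoherent A k (DRing.toD F) := fun k => isPseudoCoherent_toD hFo hFf k
    have hC'pc : DRing.IsPseudoCoherent A m C' :=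
      isPseudoCoherent_obj₃ _ hC' m (isPseudoCoherent_obj₂ _ (binaryBiproductTriangle_distinguished _ _) (m + 1)
        (hFpc _) (hFpc _)) hpc
    have hCpc := isPseudoCoherent_retract_aux m n u (v ≫ inv (u ≫ v)) (by rw [← Category.assoc, IsIso.hom_inv_id])
      ((isoAbove_mor₁_iff _ hC b).1 hφ) ((isoAbove_mor₁_iff _ hC' b).1 hψ) hC'pc
    exact isPseudoCoherent_obj₂ _ hC m (hFpc m) hCpc

theorem isPseudoCoherent_of_retract {m : ℤ} {K M : Dual.D A} (i : K ⟶ M) (r : M ⟶ K) (hir : i ≫ r = 𝟙 K)
    (hM : DRing.IsPseudoCoherent A m M) : DRing.IsPseudoCoherent A m K := by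
  obtain ⟨b, hb⟩ := exists_vanishGE hM
  refine isPseudoCoherent_retract_aux m (b + 1 - m).toNat i r hir (fun j hj => ?_) (fun j hj => hb j (by omega)) hM
  rw [IsZero.iff_id_eq_zero]
  have h := congrArg (DerivedCategory.homologyFunctor (ModuleCat.{u} A) j).map hir
  rw [Functor.map_comp, CategoryTheory.Functor.map_id,
    (hb j (by omega)).eq_of_tgt ((DerivedCategory.homologyFunctor (ModuleCat.{u} A) j).map i) 0, zero_comp] at h
  exact h.symm

theorem isPseudoCoherent'_of_retract {K M : Dual.D A} (i : K ⟶ M) (r : M ⟶ K) (hir : i ≫ r = 𝟙 K)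
    (hM : DRing.IsPseudoCoherent' A M) : DRing.IsPseudoCoherent' A K :=
  pseudoCoherent'_of_forall fun m => isPseudoCoherent_of_retract i r hir (isPseudoCoherent_of_pseudoCoherent' hM m)

end Groth.Agent.DRingRetract
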